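import Mathlib.CategoryTheory.Monoidal.Tor
import Mathlib.Algebra.Category.ModuleCat.Monoidal.Basic
import Mathlib.Algebra.Category.ModuleCat.Projective
import Mathlib.Algebra.Homology.ShortComplex.ModuleCat
import Mathlib.LinearAlgebra.TensorProduct.RightExactness
import Mathlib.LinearAlgebra.TensorProduct.Pi
import Mathlib.RingTheory.Finiteness.Cardinality
import Mathlib.Algebra.Module.FinitePresentation
import Mathlib.Algebra.Module.Projective

/-!
# Maps killed by `Tor₁` factor through free modules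
-/

universe u

open CategoryTheory TensorProduct

namespace GrothLib.TorFactor

variable {R : Type u} [CommRing R]

theorem exists_d_eq {C D : ChainComplex (ModuleCat.{u} R) ℕ} (φ : C ⟶ D)
    (h : HomologicalComplex.homologyMap φ 1 = 0) (x : C.X 1) (hx : C.d 1 0 x = 0) :
    ∃ y : D.X 2, D.d 2 1 y = φ.f 1 x := by
  let k : ModuleCat.of R R ⟶ C.X 1 := ModuleCat.ofHom (LinearMap.toSpanSingleton R _ x)
  have hk : k ≫ C.d 1 0 = 0 := ModuleCat.hom_ext (LinearMap.ext_ring (by simp [k, hx]))
  let z := C.liftCycles k 0 (by simp) hk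
  have hz : z ≫ HomologicalComplex.cyclesMap φ 1 ≫ D.homologyπ 1 = 0 := by
    rw [← HomologicalComplex.homologyπ_naturality, h, Limits.comp_zero, Limits.comp_zero]
  have hex := (ShortComplex.moduleCat_exact_iff _).1
    (ShortComplex.exact_of_g_is_cokernel (ShortComplex.mk (D.toCycles 2 1) (D.homologyπ 1) (D.toCycles_comp_homologyπ 2 1))
      (D.homologyIsCokernel 2 1 (by simp)))
    ((z ≫ HomologicalComplex.cyclesMap φ 1).hom (1 : R))
    (by
      have := DFunLike.congr_fun (congrArg ModuleCat.Hom.hom hz) (1 : R)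
      simpa using this)
  obtain ⟨y, hy⟩ := hex
  refine ⟨y, ?_⟩
  have h1 := congrArg (fun t => (D.iCycles 1).hom t) hy
  have h2 : (z ≫ HomologicalComplex.cyclesMap φ 1) ≫ D.iCycles 1 = k ≫ φ.f 1 := by
    rw [Category.assoc, HomologicalComplex.cyclesMap_i, ← Category.assoc, HomologicalComplex.liftCycles_i]
  have h3 := DFunLike.congr_fun (congrArg ModuleCat.Hom.hom h2) (1 : R)
  have h4 := DFunLike.congr_fun (congrArg ModuleCat.Hom.hom (D.toCycles_i 2 1)) y
  simp only [ModuleCat.hom_comp, LinearMap.comp_apply] at h1 h3 h4 ⊢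
  rw [← h4, h1, h3]
  simp [k]

theorem rTensor_eq_zero_of_tor {M M' : Type u} [AddCommGroup M] [Module R M] [AddCommGroup M'] [Module R M']
    (α : M →ₗ[R] M')
    (h : ∀ (N : Type u) [AddCommGroup N] [Module R N],
      ((CategoryTheory.Tor (ModuleCat.{u} R) 1).map (ModuleCat.ofHom α)).app (ModuleCat.of R N) = 0)
    {P : Type u} [AddCommGroup P] [Module R P] [Module.Projective R P] (L : Submodule R P) (m : M ⊗[R] L)
    (hm : L.subtype.lTensor M m = 0) : α.rTensor L m = 0 := by
  let N := P ⧸ L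
  let Q := projectiveResolution (ModuleCat.of R N)
  let τ := (MonoidalCategory.tensoringLeft (ModuleCat.{u} R)).map (ModuleCat.ofHom α)
  let φ := (NatTrans.mapHomologicalComplex τ (ComplexShape.down ℕ)).app Q.complex
  have hφ : HomologicalComplex.homologyMap φ 1 = 0 := by
    have e := (ProjectiveResolution.leftDerived_app_eq τ Q 1).symm.trans (h N)
    have e2 := congrArg (fun t => (Q.isoLeftDerivedObj _ 1).inv ≫ t ≫ (Q.isoLeftDerivedObj _ 1).hom) e
    simp only [Category.assoc, Iso.inv_hom_id_assoc, Iso.inv_hom_id, Category.comp_id] at e2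
    exact e2.trans ((congrArg _ Limits.zero_comp).trans Limits.comp_zero)
  let d₁ : Q.complex.X 1 →ₗ[R] Q.complex.X 0 := (Q.complex.d 1 0).hom
  let q : Q.complex.X 0 →ₗ[R] N := (Q.π.f 0).hom
  have hq : Function.Surjective q := (ModuleCat.epi_iff_surjective _).1 (inferInstance : Epi (Q.π.f 0))
  have : Module.Projective R (Q.complex.X 0) := (IsProjective.iff_projective _).2 (Q.projective 0)
  have hdq : Function.Exact d₁ q := fun x => ⟨fun hx => (ShortComplex.moduleCat_exact_iff _).1 Q.exact₀ x hx, by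
    rintro ⟨y, rfl⟩
    exact congrArg (fun f => f.hom y) Q.complex_d_comp_π_f_zero⟩
  let K := LinearMap.range d₁
  obtain ⟨f, hf⟩ := Module.projective_lifting_property q L.mkQ hq
  obtain ⟨g, hg⟩ := Module.projective_lifting_property L.mkQ q L.mkQ_surjective
  have hfK : ∀ l : L, f l ∈ K := fun l => (hdq _).1 (by
    rw [← LinearMap.comp_apply, hf, Submodule.mkQ_apply, Submodule.Quotient.mk_eq_zero]; exact l.2)
  have hgK : ∀ k : K, g k ∈ L := fun k => by
    rw [← Submodule.Quotient.mk_eq_zero, ← Submodule.mkQ_apply, ← LinearMap.comp_apply, hg]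
    exact (hdq _).2 k.2
  let fL : L →ₗ[R] K := (f ∘ₗ L.subtype).codRestrict K hfK
  let gK : K →ₗ[R] L := (g ∘ₗ K.subtype).codRestrict L hgK
  have hgf : ∀ p : P, g (f p) - p ∈ L := fun p => by
    rw [← Submodule.Quotient.mk_eq_zero, Submodule.Quotient.mk_sub, ← Submodule.mkQ_apply, ← LinearMap.comp_apply,
      hg, ← LinearMap.comp_apply, hf]
    exact sub_self _
  let η : P →ₗ[R] L := (g ∘ₗ f - LinearMap.id).codRestrict L hgf
  have hid : gK ∘ₗ fL = LinearMap.id + η ∘ₗ L.subtype := LinearMap.ext fun l => Subtype.ext (by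
    show g (f l) = (l : P) + (g (f l) - l)
    abel)
  have hK : K.subtype.lTensor M (fL.lTensor M m) = 0 := by
    rw [← LinearMap.comp_apply, ← LinearMap.lTensor_comp, show K.subtype ∘ₗ fL = f ∘ₗ L.subtype from rfl,
      LinearMap.lTensor_comp, LinearMap.comp_apply, hm, map_zero]
  obtain ⟨x, hx⟩ := LinearMap.lTensor_surjective M d₁.surjective_rangeRestrict (fL.lTensor M m)
  have hx0 : d₁.lTensor M x = 0 := by
    rw [show d₁ = K.subtype ∘ₗ d₁.rangeRestrict from rfl, LinearMap.lTensor_comp, LinearMap.comp_apply]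
    exact (congrArg _ hx).trans hK
  obtain ⟨y, hy⟩ := exists_d_eq φ hφ x hx0
  change (Q.complex.d 2 1).hom.lTensor M' y = α.rTensor _ x at hy
  have hK' : α.rTensor K (fL.lTensor M m) = 0 := by
    rw [← hx, ← LinearMap.comp_apply, LinearMap.rTensor_comp_lTensor, ← LinearMap.lTensor_comp_rTensor,
      LinearMap.comp_apply, ← hy]
    have h0 : d₁.rangeRestrict ∘ₗ (Q.complex.d 2 1).hom = 0 :=
      LinearMap.ext fun z => Subtype.ext (congrArg (fun f => f.hom z) (Q.complex.d_comp_d 2 1 0))
    have h00 : ∀ y' : M' ⊗[R] Q.complex.X 2,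
        d₁.rangeRestrict.lTensor M' ((Q.complex.d 2 1).hom.lTensor M' y') = 0 := fun y' => by
      rw [← LinearMap.comp_apply, ← LinearMap.lTensor_comp, h0, LinearMap.lTensor_zero, LinearMap.zero_apply]
    exact h00 y
  have h1 := congrArg (gK.lTensor M') hK'
  rw [map_zero, ← LinearMap.comp_apply, LinearMap.lTensor_comp_rTensor, ← LinearMap.rTensor_comp_lTensor,
    LinearMap.comp_apply, ← LinearMap.comp_apply (gK.lTensor M), ← LinearMap.lTensor_comp, hid,
    LinearMap.lTensor_add, LinearMap.add_apply, LinearMap.lTensor_id, LinearMap.id_apply, LinearMap.lTensor_comp,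
    LinearMap.comp_apply, hm, map_zero, add_zero] at h1
  exact h1

theorem factors_through_free {M M' : Type u} [AddCommGroup M] [Module R M] [Module.FinitePresentation R M]
    [AddCommGroup M'] [Module R M'] (α : M →ₗ[R] M')
    (h : ∀ (N : Type u) [AddCommGroup N] [Module R N],
      ((CategoryTheory.Tor (ModuleCat.{u} R) 1).map (ModuleCat.ofHom α)).app (ModuleCat.of R N) = 0) :
    ∃ (ι : Type u) (g : M →ₗ[R] (ι →₀ R)) (h : (ι →₀ R) →ₗ[R] M'), α = h ∘ₗ g := by
  obtain ⟨n, p, hp⟩ := Module.Finite.exists_fin' R M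
  obtain ⟨m, k, hk⟩ := Submodule.fg_iff_exists_fin_generating_family.1
    (Module.FinitePresentation.fg_ker p hp)
  let π : (M' →₀ R) →ₗ[R] M' := Finsupp.linearCombination R id
  obtain ⟨β, hβ⟩ := Module.projective_lifting_property π (α ∘ₗ p)
    (fun x => ⟨Finsupp.single x 1, by simp [π]⟩)
  let row : Fin n → (Fin m → R) := fun i j => k j i
  let L := Submodule.span R (Set.range row)
  let ℓ : Fin n → L := fun i => ⟨row i, Submodule.subset_span ⟨i, rfl⟩⟩
  have hkj : ∀ j, ∑ i, k j i • p (Pi.single i 1) = 0 := fun j => by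
    have : k j ∈ LinearMap.ker p := hk ▸ Submodule.subset_span ⟨j, rfl⟩
    conv_rhs => rw [← LinearMap.mem_ker.1 this, pi_eq_sum_univ' (k j), map_sum]
    simp [map_smul]
  let mm : M ⊗[R] L := ∑ i, p (Pi.single i 1) ⊗ₜ[R] ℓ i
  have hmm : L.subtype.lTensor M mm = 0 := by
    refine (TensorProduct.piScalarRight R R M (Fin m)).injective (funext fun j => ?_)
    simp only [mm, map_sum, map_zero, LinearMap.lTensor_tmul, TensorProduct.piScalarRight_apply,
      TensorProduct.piScalarRightHom_tmul, Finset.sum_apply, Pi.zero_apply]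
    exact hkj j
  have hα := rTensor_eq_zero_of_tor α h L mm hmm
  let fL : (M' →₀ R) ⊗[R] L := ∑ i, β (Pi.single i 1) ⊗ₜ[R] ℓ i
  have hfL : π.rTensor L fL = 0 := by
    rw [← hα]
    simp only [fL, mm, map_sum, LinearMap.rTensor_tmul]
    exact Finset.sum_congr rfl fun i _ => by rw [← LinearMap.comp_apply, hβ]; rfl
  have hexπ : Function.Exact (LinearMap.ker π).subtype π := LinearMap.exact_subtype_ker_map π
  have hsπ : Function.Surjective π := fun x => ⟨Finsupp.single x 1, by simp [π]⟩
  obtain ⟨kk, hkk⟩ := (rTensor_exact (N := M' →₀ R) (P := M') (M := ↥(LinearMap.ker π)) (g := π) ↥L hexπ hsπ fL).1 hfL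
  let cov : (Fin n → R) →ₗ[R] L := Fintype.linearCombination R ℓ
  have hcov : Function.Surjective cov := by
    rintro ⟨l, hl⟩
    obtain ⟨c, rfl⟩ := (Submodule.mem_span_range_iff_exists_fun R).1 hl
    exact ⟨c, Subtype.ext (by simp [cov, ℓ, Fintype.linearCombination_apply])⟩
  obtain ⟨yy, hyy⟩ := LinearMap.lTensor_surjective _ hcov kk
  let y := TensorProduct.piScalarRight R R (LinearMap.ker π) (Fin n) yy
  have hkey : ∀ j, ∑ i, k j i • β (Pi.single i 1) = ∑ i, k j i • (y i : M' →₀ R) := by
    intro j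
    have e1 := congrFun (congrArg (fun t => TensorProduct.piScalarRight R R (M' →₀ R) (Fin m)
      (L.subtype.lTensor (M' →₀ R) t)) hkk) j
    simp only [fL, map_sum, LinearMap.lTensor_tmul, TensorProduct.piScalarRight_apply,
      TensorProduct.piScalarRightHom_tmul, Finset.sum_apply] at e1
    rw [show (∑ i, k j i • β (Pi.single i 1)) = ∑ i, (ℓ i).1 j • β (Pi.single i 1) from rfl]
    refine e1.symm.trans ?_
    rw [← hyy]
    simp only [y]
    clear hyy
    induction yy using TensorProduct.induction_on with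
    | zero => simp
    | tmul a c =>
      simp [cov, ℓ, row, Fintype.linearCombination_apply, Finset.sum_smul, smul_smul, mul_comm]
    | add a b ha hb =>
      simp only [map_add, Pi.add_apply, Submodule.coe_add, smul_add, Finset.sum_add_distrib] at ha hb ⊢
      rw [ha, hb]
  let β' : (Fin n → R) →ₗ[R] (M' →₀ R) :=
    β - (LinearMap.ker π).subtype ∘ₗ Fintype.linearCombination R y
  have hker : LinearMap.ker p ≤ LinearMap.ker β' := by
    rw [← hk, Submodule.span_le]
    rintro _ ⟨j, rfl⟩
    rw [SetLike.mem_coe, LinearMap.mem_ker, LinearMap.sub_apply, sub_eq_zero]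
    conv_lhs => rw [pi_eq_sum_univ' (k j), map_sum]
    simp only [map_smul, LinearMap.comp_apply, Fintype.linearCombination_apply, map_sum, Submodule.subtype_apply]
    exact hkey j
  let g : M →ₗ[R] (M' →₀ R) := (LinearMap.ker p).liftQ β' hker ∘ₗ (p.quotKerEquivOfSurjective hp).symm.toLinearMap
  refine ⟨M', g, π, LinearMap.ext fun x => ?_⟩
  obtain ⟨v, rfl⟩ := hp x
  have : g (p v) = β' v := by
    simp only [g, LinearMap.comp_apply, LinearEquiv.coe_coe]
    rw [show (p.quotKerEquivOfSurjective hp).symm (p v) = Submodule.Quotient.mk v from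
      (LinearEquiv.symm_apply_eq _).2 (LinearMap.quotKerEquivOfSurjective_apply_mk p hp v).symm, Submodule.liftQ_apply]
  rw [LinearMap.comp_apply, this, LinearMap.sub_apply, map_sub, LinearMap.comp_apply,
    Submodule.subtype_apply, LinearMap.mem_ker.1 (Fintype.linearCombination R y v).2, sub_zero]
  exact (DFunLike.congr_fun hβ v).symm

end GrothLib.TorFactor
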